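import Mathlib
import Cfsg.Prelude.Def_Sporadic_a

/-!
Self-orthogonal binary [24,12] codes of minimum weight 8: perfect coset counting, the octad design,
double evenness and generation by octads, all without classifying the code.
-/

set_option autoImplicit false

namespace Cfsg.Agent.Lib.AbstractGolay.Basic

open Finset

abbrev V : Type := Fin 24 → ZMod 2

/-- Indicator word of a set. -/
def ind (s : Finset (Fin 24)) : V := fun i => if i ∈ s then 1 else 0

/-- Support of a word. -/
def supp (w : V) : Finset (Fin 24) := univ.filter fun i => w i ≠ 0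

theorem zmod2_cases : ∀ a : ZMod 2, a = 0 ∨ a = 1 := by decide

theorem norm_eq (w : V) : hammingNorm w = (supp w).card := rfl

theorem supp_ind (s : Finset (Fin 24)) : supp (ind s) = s := by
  ext i; simp [supp, ind]

theorem ind_supp (w : V) : ind (supp w) = w := by
  funext i
  rcases zmod2_cases (w i) with h | h <;> simp [ind, supp, h]

theorem ind_add (s t : Finset (Fin 24)) : ind s + ind t = ind (symmDiff s t) := by
  funext i
  by_cases hs : i ∈ s <;> by_cases ht : i ∈ t <;>
    simp [ind, hs, ht, Finset.mem_symmDiff, CharTwo.add_self_eq_zero]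

theorem sub_eq_add_v (u w : V) : u - w = u + w := by
  funext i; exact CharTwo.sub_eq_add _ _

theorem card_symmDiff_add (s t : Finset (Fin 24)) :
    (symmDiff s t).card + 2 * (s ∩ t).card = s.card + t.card := by
  rw [symmDiff_def, Finset.sup_eq_union, Finset.card_union_of_disjoint disjoint_sdiff_sdiff]
  have h1 := Finset.card_sdiff_add_card_inter s t
  have h2 := Finset.card_sdiff_add_card_inter t s
  rw [Finset.inter_comm t s] at h2
  omega

/-- The hypotheses on the code. -/
structure IsGolay (C : Submodule (ZMod 2) V) : Prop where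
  dim : Module.finrank (ZMod 2) C = 12
  orth : ∀ v ∈ C, ∀ w ∈ C, ∑ i, v i * w i = 0
  minWt : ∀ w ∈ C, w ≠ 0 → 8 ≤ hammingNorm w

namespace IsGolay

variable {C : Submodule (ZMod 2) V}

theorem even_inter (h : IsGolay C) {s t : Finset (Fin 24)} (hs : ind s ∈ C) (ht : ind t ∈ C) :
    2 ∣ (s ∩ t).card := by
  have h0 := h.orth _ hs _ ht
  have e : ∑ i, ind s i * ind t i = ((s ∩ t).card : ZMod 2) := by
    simp [ind, Finset.inter_comm s t]
  rw [e] at h0
  exact (ZMod.natCast_eq_zero_iff_even.mp h0).two_dvd

theorem even_card (h : IsGolay C) {s : Finset (Fin 24)} (hs : ind s ∈ C) : 2 ∣ s.card := by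
  simpa using h.even_inter hs hs

theorem eight_le (h : IsGolay C) {s : Finset (Fin 24)} (hs : ind s ∈ C) (hne : s.Nonempty) :
    8 ≤ s.card := by
  have := h.minWt _ hs (fun e => by
    obtain ⟨i, hi⟩ := hne
    have := congrFun e i
    simp [ind, hi] at this)
  rwa [norm_eq, supp_ind] at this

theorem dist (h : IsGolay C) {s t : Finset (Fin 24)} (hst : ind s + ind t ∈ C) (hne : s ≠ t) :
    8 + 2 * (s ∩ t).card ≤ s.card + t.card := by
  rw [ind_add] at hst
  have hn : (symmDiff s t).Nonempty := by
    rw [Finset.nonempty_iff_ne_empty]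
    intro e
    exact hne (symmDiff_eq_bot.mp e)
  have := h.eight_le hst hn
  have := card_symmDiff_add s t
  omega

theorem card_quotient (h : IsGolay C) : Nat.card (V ⧸ C) = 4096 := by
  have h1 := Submodule.card_eq_card_quotient_mul_card C
  have h2 : Nat.card C = 2 ^ 12 := by
    rw [Module.natCard_eq_pow_finrank (K := ZMod 2), h.dim]; simp
  have h3 : Nat.card V = 2 ^ 24 := by simp [V]
  rw [h2, h3] at h1
  omega

end IsGolay

/-- The class of a set. -/
noncomputable def cls (C : Submodule (ZMod 2) V) (s : Finset (Fin 24)) : V ⧸ C :=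
  Submodule.Quotient.mk (ind s)

theorem cls_eq {C : Submodule (ZMod 2) V} {s t : Finset (Fin 24)} :
    cls C s = cls C t ↔ ind s + ind t ∈ C := by
  rw [cls, cls, Submodule.Quotient.eq, sub_eq_add_v]

/-- Sets of at most three points. -/
def low : Finset (Finset (Fin 24)) :=
  (Finset.range 4).biUnion fun k => Finset.powersetCard k univ

theorem mem_low {s : Finset (Fin 24)} : s ∈ low ↔ s.card ≤ 3 := by
  simp [low]; omega

theorem card_low : low.card = 2325 := by
  rw [low, Finset.card_biUnion]
  · simp only [Finset.card_powersetCard, Finset.card_univ, Fintype.card_fin]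
    decide
  · intro a _ b _ hab
    simp only [Function.onFun, Finset.disjoint_left, Finset.mem_powersetCard]
    rintro x ⟨_, rfl⟩ ⟨_, hb⟩
    exact hab hb

namespace IsGolay

variable {C : Submodule (ZMod 2) V}

open Classical in
/-- Every coset has either one set of size at most 3, or exactly six sets of size 4. -/
theorem coset_dichotomy (h : IsGolay C) (q : V ⧸ C) :
    (∃ s, s.card ≤ 3 ∧ cls C s = q ∧ ∀ t, t.card ≤ 4 → cls C t = q → t = s) ∨
    ((∀ t, t.card ≤ 4 → cls C t = q → t.card = 4) ∧
      ((powersetCard 4 (univ : Finset (Fin 24))).filter fun t => cls C t = q).card = 6 ∧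
      ∀ s t, s.card = 4 → t.card = 4 → cls C s = q → cls C t = q → s ≠ t → Disjoint s t) := by
  haveI : Fintype (V ⧸ C) := Fintype.ofFinite _
  have hdisj : ∀ s t : Finset (Fin 24), s.card = 4 → t.card = 4 → cls C s = cls C t → s ≠ t →
      Disjoint s t := by
    intro s t hs ht he hne
    have := h.dist (cls_eq.mp he) hne
    rw [Finset.disjoint_iff_inter_eq_empty, ← Finset.card_eq_zero]
    omega
  let A : Finset (V ⧸ C) := low.image (cls C)
  have hinj : ∀ s ∈ low, ∀ t ∈ low, cls C s = cls C t → s = t := by
    intro s hs t ht he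
    by_contra hne
    have := h.dist (cls_eq.mp he) hne
    rw [mem_low] at hs ht
    omega
  have hA : A.card = 2325 := by
    rw [Finset.card_image_of_injOn fun s hs t ht he => hinj s hs t ht he, card_low]
  by_cases hq : q ∈ A
  · left
    obtain ⟨s, hs, rfl⟩ := Finset.mem_image.mp hq
    refine ⟨s, mem_low.mp hs, rfl, fun t ht he => ?_⟩
    by_contra hne
    have := h.dist (cls_eq.mp he) hne
    have := mem_low.mp hs
    omega
  · right
    refine ⟨fun t ht he => ?_, ?_, fun s t hs ht e1 e2 => hdisj s t hs ht (e1.trans e2.symm)⟩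
    · by_contra hne
      exact hq (Finset.mem_image.mpr ⟨t, mem_low.mpr (by omega), he⟩)
    let P := powersetCard 4 (univ : Finset (Fin 24))
    let f : V ⧸ C → ℕ := fun q => (P.filter fun t => cls C t = q).card
    have hmaps : ∀ t ∈ P, cls C t ∈ univ \ A := by
      intro t ht
      refine Finset.mem_sdiff.mpr ⟨Finset.mem_univ _, fun hA' => ?_⟩
      obtain ⟨s, hs, he⟩ := Finset.mem_image.mp hA'
      have hne : s ≠ t := fun e => by
        have := mem_low.mp hs
        rw [e, (Finset.mem_powersetCard.mp ht).2] at this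
        omega
      have := h.dist (cls_eq.mp he) hne
      have := mem_low.mp hs
      have := (Finset.mem_powersetCard.mp ht).2
      omega
    have hsum : P.card = ∑ q ∈ univ \ A, f q := Finset.card_eq_sum_card_fiberwise hmaps
    have hle : ∀ q ∈ univ \ A, f q ≤ 6 := by
      intro q _
      let F := P.filter fun t => cls C t = q
      have hF : ∀ t ∈ F, t.card = 4 ∧ cls C t = q := fun t ht =>
        ⟨(Finset.mem_powersetCard.mp (Finset.mem_filter.mp ht).1).2, (Finset.mem_filter.mp ht).2⟩
      have hd : (F : Set (Finset (Fin 24))).PairwiseDisjoint id := fun s hs t ht hne =>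
        hdisj s t (hF s hs).1 (hF t ht).1 ((hF s hs).2.trans (hF t ht).2.symm) hne
      have h24 := Finset.card_le_univ (F.biUnion id)
      rw [Finset.card_biUnion hd, Finset.sum_congr rfl fun t ht => (show (id t).card = 4 from (hF t ht).1),
        Finset.sum_const, smul_eq_mul, Fintype.card_fin] at h24
      show F.card ≤ 6
      omega
    have hcard : (univ \ A).card = 1771 := by
      rw [Finset.card_sdiff_of_subset (Finset.subset_univ _), Finset.card_univ, ← Nat.card_eq_fintype_card,
        h.card_quotient, hA]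
    have hP : P.card = 10626 := by
      simp only [P, Finset.card_powersetCard, Finset.card_univ, Fintype.card_fin]
      decide
    have htot : ∑ q ∈ univ \ A, f q = ∑ q ∈ univ \ A, 6 := by
      rw [Finset.sum_const, hcard, ← hsum, hP]; rfl
    exact (Finset.sum_eq_sum_iff_of_le hle).mp htot q (Finset.mem_sdiff.mpr ⟨Finset.mem_univ _, hq⟩)

/-- Five points lie in exactly one octad. -/
theorem five_points (h : IsGolay C) {T : Finset (Fin 24)} (hT : T.card = 5) :
    ∃! b : Finset (Fin 24), (ind b ∈ C ∧ b.card = 8) ∧ T ⊆ b := by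
  classical
  obtain ⟨u, hu, hcls⟩ : ∃ u : Finset (Fin 24), u.card ≤ 4 ∧ cls C u = cls C T := by
    rcases h.coset_dichotomy (cls C T) with ⟨s, hs, e, _⟩ | ⟨_, h6, _⟩
    · exact ⟨s, by omega, e⟩
    · obtain ⟨t, ht⟩ := Finset.card_pos.mp (h6 ▸ (by decide : 0 < 6))
      simp only [Finset.mem_filter, Finset.mem_powersetCard] at ht
      exact ⟨t, by omega, ht.2⟩
  have hmem : ind (symmDiff T u) ∈ C := by
    rw [← ind_add]; exact cls_eq.mp hcls.symm
  have hne : T ≠ u := fun e => by rw [← e] at hu; omega
  have hd := h.dist (cls_eq.mp hcls.symm) hne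
  have heven := h.even_card hmem
  have hsum := card_symmDiff_add T u
  have h0 : (T ∩ u).card = 0 := by omega
  have hd0 : Disjoint T u := Finset.disjoint_iff_inter_eq_empty.mpr (Finset.card_eq_zero.mp h0)
  refine ⟨symmDiff T u, ⟨⟨hmem, by omega⟩, fun x hx => ?_⟩, ?_⟩
  · exact Finset.mem_symmDiff.mpr (Or.inl ⟨hx, fun hxu => Finset.disjoint_left.mp hd0 hx hxu⟩)
  · rintro b ⟨⟨hb, hb8⟩, hTb⟩
    by_contra hne'
    have hTc : T ⊆ symmDiff T u := fun x hx =>
      Finset.mem_symmDiff.mpr (Or.inl ⟨hx, fun hxu => Finset.disjoint_left.mp hd0 hx hxu⟩)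
    have h1 := h.dist (C.add_mem hb hmem) hne'
    have h2 : T.card ≤ (b ∩ symmDiff T u).card := Finset.card_le_card (Finset.subset_inter hTb hTc)
    omega

/-- Descent by octads: weights are divisible by four and octads span. -/
theorem descent (h : IsGolay C) : ∀ (n : ℕ) (s : Finset (Fin 24)), s.card = n → ind s ∈ C →
    4 ∣ n ∧ ind s ∈ Submodule.span (ZMod 2) {w : V | w ∈ C ∧ hammingNorm w = 8} := by
  intro n
  induction n using Nat.strong_induction_on with
  | _ n ih =>
    intro s hs hmem
    rcases s.eq_empty_or_nonempty with rfl | hne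
    · refine ⟨by simp [← hs], ?_⟩
      have : ind (∅ : Finset (Fin 24)) = 0 := by funext i; simp [ind]
      rw [this]; exact Submodule.zero_mem _
    · have h8 := h.eight_le hmem hne
      obtain ⟨T, hTs, hT⟩ := Finset.exists_subset_card_eq (show 5 ≤ s.card by omega)
      obtain ⟨b, ⟨⟨hb, hb8⟩, hTb⟩, _⟩ := h.five_points hT
      have hi : 5 ≤ (s ∩ b).card := hT ▸ Finset.card_le_card (Finset.subset_inter hTs hTb)
      have heven := h.even_inter hmem hb
      have hi8 : (s ∩ b).card ≤ 8 := hb8 ▸ Finset.card_le_card Finset.inter_subset_right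
      have hc := card_symmDiff_add s b
      have hnew : ind (symmDiff s b) ∈ C := by rw [← ind_add]; exact C.add_mem hmem hb
      obtain ⟨h4, hsp⟩ := ih _ (by omega) _ rfl hnew
      refine ⟨by omega, ?_⟩
      have e : ind s = ind (symmDiff s b) + ind b := by
        rw [ind_add, symmDiff_assoc, symmDiff_self, symmDiff_bot]
      rw [e]
      exact Submodule.add_mem _ hsp (Submodule.subset_span ⟨hb, by rw [norm_eq, supp_ind, hb8]⟩)

theorem four_dvd (h : IsGolay C) {w : V} (hw : w ∈ C) : 4 ∣ hammingNorm w := by
  rw [norm_eq]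
  exact (h.descent _ (supp w) rfl (by rw [ind_supp]; exact hw)).1

theorem span_octads (h : IsGolay C) :
    Submodule.span (ZMod 2) {w : V | w ∈ C ∧ hammingNorm w = 8} = C := by
  refine le_antisymm (Submodule.span_le.mpr fun w hw => hw.1) fun w hw => ?_
  have := (h.descent _ (supp w) rfl (by rw [ind_supp]; exact hw)).2
  rwa [ind_supp] at this

end IsGolay

end Cfsg.Agent.Lib.AbstractGolay.Basic
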