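import Mathlib
import Cfsg.Prelude.Def_Sporadic_a

/-! Replication numbers of Steiner systems by double counting. -/

set_option autoImplicit false

namespace Cfsg.Agent.Lib.AbstractGolay.Steiner

open Finset

/-- The number of blocks through a set `S` of at most `t` points, times `C(k-s, t-s)`, is
`C(v-s, t-s)`. -/
theorem blocks_through {α : Type*} [Fintype α] [DecidableEq α] {t k : ℕ} {B : Set (Finset α)}
    (hB : Cfsg.IsSteinerSystem t k B) {S : Finset α} (hS : S.card ≤ t) :
    {b : Finset α | b ∈ B ∧ S ⊆ b}.ncard * (k - S.card).choose (t - S.card) =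
      (Fintype.card α - S.card).choose (t - S.card) := by
  classical
  let BS : Finset (Finset α) := univ.filter fun b => b ∈ B ∧ S ⊆ b
  have e : {b : Finset α | b ∈ B ∧ S ⊆ b}.ncard = BS.card := by
    rw [← Set.ncard_coe_finset]; simp [BS]
  let F : Finset α → Finset (Finset α) := fun b => (b \ S).powersetCard (t - S.card)
  have hu : powersetCard (t - S.card) (univ \ S) = BS.biUnion F := by
    ext T
    simp only [Finset.mem_powersetCard, Finset.mem_biUnion, BS, F, Finset.mem_filter,
      Finset.mem_univ, true_and, Finset.subset_sdiff, Finset.subset_univ]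
    constructor
    · rintro ⟨hd, hc⟩
      obtain ⟨b, ⟨hb, hsub⟩, -⟩ := hB.2 (T ∪ S) (by rw [Finset.card_union_of_disjoint hd]; omega)
      exact ⟨b, ⟨hb, fun x hx => hsub (Finset.mem_union_right _ hx)⟩,
        ⟨fun x hx => hsub (Finset.mem_union_left _ hx), hd⟩, hc⟩
    · rintro ⟨b, _, ⟨_, hd⟩, hc⟩
      exact ⟨hd, hc⟩
  have hd : (BS : Set (Finset α)).PairwiseDisjoint F := by
    intro b hb c hc hne
    simp only [Function.onFun, Finset.disjoint_left, F, Finset.mem_powersetCard, Finset.subset_sdiff]
    rintro T ⟨⟨hTb, hd⟩, hT⟩ ⟨⟨hTc, -⟩, -⟩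
    simp only [BS, Finset.coe_filter, Finset.mem_univ, true_and, Set.mem_setOf_eq] at hb hc
    exact hne ((hB.2 (T ∪ S) (by rw [Finset.card_union_of_disjoint (Finset.disjoint_left.mpr hd)]; omega)).unique
      ⟨hb.1, Finset.union_subset hTb hb.2⟩ ⟨hc.1, Finset.union_subset hTc hc.2⟩)
  have h1 := congrArg Finset.card hu
  rw [Finset.card_powersetCard, Finset.card_sdiff_of_subset (Finset.subset_univ _), Finset.card_univ,
    Finset.card_biUnion hd] at h1
  rw [e, h1]
  rw [Finset.sum_congr rfl (g := fun _ => (k - S.card).choose (t - S.card)) (fun b hb => by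
    simp only [BS, Finset.mem_filter] at hb
    rw [Finset.card_powersetCard, Finset.card_sdiff_of_subset hb.2.2, hB.1 b hb.2.1])]
  rw [Finset.sum_const, smul_eq_mul]

end Cfsg.Agent.Lib.AbstractGolay.Steiner
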